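import Groth.Agent.UnivFinOpen.Factor
import Groth.Agent.S1458

/-!
# The universal finite open
-/

set_option autoImplicit false
set_option linter.style.haveILetI false
set_option maxHeartbeats 1000000
set_option synthInstance.maxHeartbeats 200000
set_option backward.isDefEq.respectTransparency false

universe u

open CategoryTheory Limits AlgebraicGeometry TensorProduct

noncomputable section

namespace Groth.Agent.UnivFinOpen

section Alg

variable {A : Type u} [CommRing A]

/-- Killing an element of a tensor product with a finitely presented module, weakly universally. -/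
theorem exists_kill {Q : Type u} [CommRing Q] [Algebra A Q] [Algebra.FinitePresentation A Q]
    {M : Type u} [AddCommGroup M] [Module A M] [Module.FinitePresentation A M] (z : M ⊗[A] Q) :
    ∃ (Q' : Type u) (_ : CommRing Q') (_ : Algebra A Q') (q : Q →ₐ[A] Q'), Algebra.FinitePresentation A Q' ∧
      q.toLinearMap.lTensor M z = 0 ∧
      ∀ (A' : Type u) [CommRing A'] [Algebra A A'] (g : Q →ₐ[A] A'), g.toLinearMap.lTensor M z = 0 →
        ∃ g' : Q' →ₐ[A] A', g'.comp q = g := by
  classical
  obtain ⟨n, m, π, ρ, hπ, hex⟩ := Module.FinitePresentation.exists_fin' A M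
  obtain ⟨t, ht⟩ := LinearMap.rTensor_surjective Q hπ z
  let En : ∀ (R : Type u) [CommRing R] [Algebra A R] (k : ℕ), ((Fin k → A) ⊗[A] R) ≃ₗ[A] (Fin k → R) :=
    fun R _ _ k => TensorProduct.comm A (Fin k → A) R ≪≫ₗ TensorProduct.piScalarRight A A R (Fin k)
  let r : Fin m → Fin n → A := fun l => ρ (Pi.single l 1)
  have hEnat : ∀ {R R' : Type u} [CommRing R] [Algebra A R] [CommRing R'] [Algebra A R'] (g : R →ₐ[A] R')
      (w : (Fin n → A) ⊗[A] R), En R' n (g.toLinearMap.lTensor _ w) = fun k => g (En R n w k) := by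
    intro R R' _ _ _ _ g w
    induction w using TensorProduct.induction_on with
    | zero => ext; simp
    | tmul v q => ext k; simp [En]
    | add a b ha hb => ext k; simp [ha, hb]
  have hρ : ∀ {R : Type u} [CommRing R] [Algebra A R] (w : Fin m → R),
      En R n (ρ.rTensor R ((En R m).symm w)) = fun k => ∑ l, algebraMap A R (r l k) * w l := by
    intro R _ _ w
    conv_lhs => rw [← Finset.univ_sum_single w]
    ext k
    simp only [map_sum, Finset.sum_apply]
    refine Finset.sum_congr rfl fun l _ => ?_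
    simp [En, r, Algebra.smul_def]
  let a : Fin n → Q := En Q n t
  let eq : Fin n → MvPolynomial (Fin m) Q := fun k =>
    MvPolynomial.C (a k) - ∑ l, MvPolynomial.C (algebraMap A Q (r l k)) * MvPolynomial.X l
  let J : Ideal (MvPolynomial (Fin m) Q) := Ideal.span (Set.range eq)
  haveI : Algebra.FinitePresentation A (MvPolynomial (Fin m) Q) := Algebra.FinitePresentation.trans A Q _
  haveI hfp : Algebra.FinitePresentation A (MvPolynomial (Fin m) Q ⧸ J) :=
    Algebra.FinitePresentation.quotient ⟨Finset.univ.image eq, by simp [J]⟩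
  let Q' := MvPolynomial (Fin m) Q ⧸ J
  let q : Q →ₐ[A] Q' := IsScalarTower.toAlgHom A Q Q'
  refine ⟨Q', inferInstance, inferInstance, q, hfp, ?_, ?_⟩
  · let w : Fin m → Q' := fun l => Ideal.Quotient.mk J (MvPolynomial.X l)
    have h1 : ρ.rTensor Q' ((En Q' m).symm w) = q.toLinearMap.lTensor _ t := by
      refine (En Q' n).injective ?_
      rw [hρ, hEnat]
      ext k
      have h2 : Ideal.Quotient.mk J (eq k) = 0 := Ideal.Quotient.eq_zero_iff_mem.mpr (Ideal.subset_span ⟨k, rfl⟩)
      simp only [eq, map_sub, map_sum, map_mul, sub_eq_zero] at h2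
      exact h2.symm
    rw [← ht, ← LinearMap.comp_apply, LinearMap.lTensor_comp_rTensor, ← LinearMap.rTensor_comp_lTensor, LinearMap.comp_apply,
      ← h1, ← LinearMap.rTensor_comp_apply, hex.linearMap_comp_eq_zero, LinearMap.rTensor_zero, LinearMap.zero_apply]
  · intro A' _ _ g hg
    rw [← ht, ← LinearMap.comp_apply, LinearMap.lTensor_comp_rTensor, ← LinearMap.rTensor_comp_lTensor, LinearMap.comp_apply] at hg
    obtain ⟨s, hs⟩ := (rTensor_exact A' hex hπ _).mp hg
    let w := En A' m s
    have heq : ∀ k, g (a k) = ∑ l, algebraMap A A' (r l k) * w l := fun k => by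
      have h1 := congrFun (congrArg (En A' n) hs) k
      rw [hEnat, show s = (En A' m).symm w from ((En A' m).symm_apply_apply s).symm, hρ] at h1
      exact h1.symm
    letI : Algebra Q A' := g.toRingHom.toAlgebra
    haveI : IsScalarTower A Q A' := .of_algebraMap_eq fun x => (g.commutes x).symm
    let G : MvPolynomial (Fin m) Q →ₐ[A] A' := (MvPolynomial.aeval w).restrictScalars A
    have hJ : ∀ p ∈ J, G p = 0 := by
      intro p hp
      refine (show J ≤ RingHom.ker G from ?_) hp
      rw [Ideal.span_le]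
      rintro _ ⟨k, rfl⟩
      show MvPolynomial.aeval w (eq k) = 0
      simp only [eq, map_sub, map_sum, map_mul, MvPolynomial.aeval_C, MvPolynomial.aeval_X,
        ← IsScalarTower.algebraMap_apply A Q A', sub_eq_zero]
      exact heq k
    refine ⟨Ideal.Quotient.liftₐ J G hJ, AlgHom.ext fun x => ?_⟩
    show MvPolynomial.aeval w (MvPolynomial.C x) = g x
    rw [MvPolynomial.aeval_C]
    rfl

/-- A universal idempotent in a finitely generated ideal. -/
theorem exists_univ_idempotent_mem {B : Type u} [CommRing B] [Algebra A B] [Module.Finite A B]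
    [Algebra.FinitePresentation A B] (J : Ideal B) (hJ : J.FG) :
    ∃ (P : Type u) (_ : CommRing P) (_ : Algebra A P) (e : B ⊗[A] P), Algebra.FinitePresentation A P ∧
      IsIdempotentElem e ∧ e ∈ J.map (Algebra.TensorProduct.includeLeft : B →ₐ[A] B ⊗[A] P) ∧
      ∀ (A' : Type u) [CommRing A'] [Algebra A A'] (e' : B ⊗[A] A'), IsIdempotentElem e' →
        e' ∈ J.map (Algebra.TensorProduct.includeLeft : B →ₐ[A] B ⊗[A] A') →
        ∃ φ : P →ₐ[A] A', Algebra.TensorProduct.map (AlgHom.id A B) φ e = e' := by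
  haveI : Algebra.FinitePresentation A (B ⧸ J) := Algebra.FinitePresentation.quotient (R := A) hJ
  haveI : Module.FinitePresentation A (B ⧸ J) := Module.FinitePresentation.of_finite_of_finitePresentation A _
  have hmem : ∀ (R : Type u) [CommRing R] [Algebra A R] (x : B ⊗[A] R),
      x ∈ J.map (Algebra.TensorProduct.includeLeft : B →ₐ[A] B ⊗[A] R) ↔
        (Ideal.Quotient.mkₐ A J).toLinearMap.rTensor R x = 0 := fun R _ _ x => by
    have h := Algebra.TensorProduct.rTensor_ker (R := A) (S := A) (C := R) _ (Ideal.Quotient.mkₐ_surjective A J)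
    rw [show RingHom.ker (Ideal.Quotient.mkₐ A J) = J from Ideal.Quotient.mkₐ_ker A J] at h
    rw [← h]
    rfl
  obtain ⟨Au, _, _, eu, hAu, heu, huniv⟩ := Groth.Agent.S1458.result (A := A) (B := B)
  obtain ⟨P, _, _, q, hP, hkill, hPuniv⟩ := exists_kill ((Ideal.Quotient.mkₐ A J).toLinearMap.rTensor Au eu)
  refine ⟨P, inferInstance, inferInstance, Algebra.TensorProduct.map (AlgHom.id A B) q eu, hP, heu.map _, ?_, ?_⟩
  · rw [hmem, ← hkill]
    show _ = ((q.toLinearMap.lTensor (B ⧸ J)) ∘ₗ (Ideal.Quotient.mkₐ A J).toLinearMap.rTensor Au) eu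
    rw [LinearMap.lTensor_comp_rTensor, ← LinearMap.rTensor_comp_lTensor]
    rfl
  · intro A' _ _ e' he' he'J
    obtain ⟨φ₀, hφ₀⟩ := huniv A' e' he'
    obtain ⟨φ, hφ⟩ := hPuniv A' φ₀ (by
      rw [← LinearMap.comp_apply, LinearMap.lTensor_comp_rTensor, ← LinearMap.rTensor_comp_lTensor, LinearMap.comp_apply]
      refine ((hmem A' e').mp he'J).symm.trans ?_ |>.symm
      rw [← hφ₀]
      rfl)
    refine ⟨φ, ?_⟩
    rw [← hφ₀, ← hφ, ← AlgHom.comp_apply, ← Algebra.TensorProduct.map_comp, AlgHom.id_comp]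

end Alg

section Geom

variable {A B : Type u} [CommRing A] [CommRing B] [Algebra A B] {X Y : Scheme.{u}} (f : X ⟶ Y)
  (eY : Spec (CommRingCat.of A) ≅ Y) (j : X ⟶ Spec (CommRingCat.of B)) [IsOpenImmersion j]

/-- The canonical open immersion of a base change. -/
theorem exists_chartMap (hj : j ≫ Spec.map (CommRingCat.ofHom (algebraMap A B)) ≫ eY.hom = f)
    (A' : Type u) [CommRing A'] [Algebra A A'] {P : Scheme.{u}} {p : P ⟶ X} {s : P ⟶ Spec (CommRingCat.of A')}
    (h : IsPullback p s f (Spec.map (CommRingCat.ofHom (algebraMap A A')) ≫ eY.hom)) :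
    ∃ m : P ⟶ Spec (CommRingCat.of (B ⊗[A] A')), IsOpenImmersion m ∧
      m ≫ Spec.map (CommRingCat.ofHom Algebra.TensorProduct.includeLeftRingHom) = p ≫ j ∧
      m ≫ Spec.map (CommRingCat.ofHom (Algebra.TensorProduct.includeRight : A' →ₐ[A] B ⊗[A] A').toRingHom) = s ∧
      Set.range m = Spec.map (CommRingCat.ofHom Algebra.TensorProduct.includeLeftRingHom) ⁻¹' Set.range j := by
  have hsq := isPullback_SpecMap_of_isPushout _ _ _ _ (CommRingCat.isPushout_tensorProduct A B A')
  have h' : IsPullback p s (j ≫ Spec.map (CommRingCat.ofHom (algebraMap A B)))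
      (Spec.map (CommRingCat.ofHom (algebraMap A A'))) :=
    h.of_iso (Iso.refl _) (Iso.refl _) (Iso.refl _) eY.symm (by simp) (by simp) (by simp [← hj]) (by simp)
  let m := hsq.lift (p ≫ j) s (by rw [Category.assoc]; exact h'.w)
  have hm : IsPullback m p (Spec.map (CommRingCat.ofHom Algebra.TensorProduct.includeLeftRingHom)) j :=
    IsPullback.of_right (by
      rw [show m ≫ Spec.map (CommRingCat.ofHom (Algebra.TensorProduct.includeRight : A' →ₐ[A] B ⊗[A] A').toRingHom) = s from
        hsq.lift_snd _ _ _]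
      exact h'.flip) (hsq.lift_fst _ _ _) hsq.flip
  haveI : IsOpenImmersion m := MorphismProperty.of_isPullback hm.flip inferInstance
  refine ⟨m, inferInstance, hsq.lift_fst _ _ _, hsq.lift_snd _ _ _, ?_⟩
  rw [← hm.isoPullback_hom_fst, Scheme.Hom.comp_base, TopCat.coe_comp, Set.range_comp,
    Set.range_eq_univ.mpr hm.isoPullback.hom.surjective, Set.image_univ, Scheme.Pullback.range_fst]

include eY in
theorem exists_universal [Module.Finite A B] [Algebra.FinitePresentation A B] (J : Ideal B) (hJ : J.FG)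
    (hrange : Set.range j = (PrimeSpectrum.zeroLocus (J : Set B))ᶜ)
    (hj : j ≫ Spec.map (CommRingCat.ofHom (algebraMap A B)) ≫ eY.hom = f) :
    ∃ (Yu : Scheme.{u}) (a : Yu ⟶ Y) (Uu : (pullback f a).Opens), LocallyOfFinitePresentation a ∧ QuasiCompact a ∧ QuasiSeparated a ∧
      IsFinite (Uu.ι ≫ pullback.snd f a) ∧
      ∀ (Y' : Scheme.{u}) (b : Y' ⟶ Y) (U' : (pullback f b).Opens), IsAffine Y' → IsFinite (U'.ι ≫ pullback.snd f b) →
        ∃ (c : Y' ⟶ Yu) (hc : c ≫ a = b),
          (pullback.map f b f a (𝟙 X) c (𝟙 Y) ((Category.comp_id f).trans (Category.id_comp f).symm) ((Category.comp_id b).trans hc.symm)) ⁻¹ᵁ Uu = U' := by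
  obtain ⟨P, _, _, e, hP, he, heJ, huniv⟩ := exists_univ_idempotent_mem (A := A) J hJ
  let a : Spec (CommRingCat.of P) ⟶ Y := Spec.map (CommRingCat.ofHom (algebraMap A P)) ≫ eY.hom
  have hfin : ∀ (R : Type u) [CommRing R] [Algebra A R],
      IsFinite (Spec.map (CommRingCat.ofHom (Algebra.TensorProduct.includeRight : R →ₐ[A] B ⊗[A] R).toRingHom)) := by
    intro R _ _
    haveI : IsFinite (Spec.map (CommRingCat.ofHom (algebraMap A B))) :=
      (IsFinite.SpecMap_iff _).mpr (RingHom.finite_algebraMap.mpr inferInstance)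
    exact MorphismProperty.of_isPullback (isPullback_SpecMap_of_isPushout _ _ _ _ (CommRingCat.isPushout_tensorProduct A B R)) inferInstance
  obtain ⟨mu, hmuo, hmu1, hmu2, hmur⟩ := exists_chartMap f eY j hj P (IsPullback.of_hasPullback f a)
  let Uu : (pullback f a).Opens := mu ⁻¹ᵁ PrimeSpectrum.basicOpen e
  have hclopen : ∀ (R : Type u) [CommRing R] [Algebra A R] (x : B ⊗[A] R), IsIdempotentElem x →
      IsClopen ((PrimeSpectrum.basicOpen x : TopologicalSpace.Opens (PrimeSpectrum (B ⊗[A] R))) : Set (PrimeSpectrum (B ⊗[A] R))) :=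
    fun R _ _ x hx => PrimeSpectrum.isClopen_iff.mpr ⟨x, hx, rfl⟩
  refine ⟨Spec (CommRingCat.of P), a, Uu, ?_, inferInstance, inferInstance, ?_, ?_⟩
  · haveI : LocallyOfFinitePresentation (Spec.map (CommRingCat.ofHom (algebraMap A P))) :=
      (HasRingHomProperty.Spec_iff (P := @LocallyOfFinitePresentation)).mpr (RingHom.finitePresentation_algebraMap.mpr hP)
    infer_instance
  · rw [← hmu2, ← Category.assoc]
    have hsub : (PrimeSpectrum.basicOpen e).carrier ⊆ Set.range mu := by
      intro q hq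
      rw [hmur, Set.mem_preimage, hrange]
      intro hz
      exact hq (Ideal.map_le_iff_le_comap.mpr hz heJ)
    have hr : Set.range (Uu.ι ≫ mu) = (PrimeSpectrum.basicOpen e).carrier := by
      rw [Scheme.Hom.comp_base, TopCat.coe_comp, Set.range_comp, Scheme.Opens.range_ι]
      exact Set.image_preimage_eq_of_subset hsub
    haveI : IsClosedImmersion (Uu.ι ≫ mu) := IsClosedImmersion.of_isPreimmersion _ (by rw [hr]; exact (hclopen P e he).isClosed)
    haveI := hfin P
    infer_instance
  · intro Y' b U' _ hU'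
    let ψ := Spec.preimage (Y'.isoSpec.inv ≫ b ≫ eY.inv)
    let A' := Γ(Y', ⊤)
    letI : Algebra A A' := ψ.hom.toAlgebra
    have hb : Y'.isoSpec.hom ≫ Spec.map (CommRingCat.ofHom (algebraMap A A')) ≫ eY.hom = b := by
      rw [show CommRingCat.ofHom (algebraMap A A') = ψ from rfl, Spec.map_preimage]
      simp
    have hsq : IsPullback (pullback.fst f b) (pullback.snd f b ≫ Y'.isoSpec.hom) f
        (Spec.map (CommRingCat.ofHom (algebraMap A A')) ≫ eY.hom) :=
      (IsPullback.of_hasPullback f b).of_iso (Iso.refl _) (Iso.refl _) Y'.isoSpec (Iso.refl _)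
        (by simp) (by simp) (by simp) (by simp [hb])
    obtain ⟨m, hmo, hm1, hm2, hmr⟩ := exists_chartMap f eY j hj A' hsq
    haveI := hfin A'
    have hU'm : IsFinite ((U'.ι ≫ m) ≫ Spec.map (CommRingCat.ofHom (Algebra.TensorProduct.includeRight : A' →ₐ[A] B ⊗[A] A').toRingHom)) := by
      rw [Category.assoc, hm2, ← Category.assoc]
      infer_instance
    haveI : IsProper (U'.ι ≫ m) := IsProper.of_comp _ (Spec.map (CommRingCat.ofHom (Algebra.TensorProduct.includeRight : A' →ₐ[A] B ⊗[A] A').toRingHom))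
    obtain ⟨e', he', hre'⟩ := PrimeSpectrum.isClopen_iff.mp
      (⟨(U'.ι ≫ m).isClosedMap.isClosed_range, (U'.ι ≫ m).isOpenEmbedding.isOpen_range⟩ : IsClopen (Set.range (U'.ι ≫ m)))
    have he'J : e' ∈ J.map (Algebra.TensorProduct.includeLeft : B →ₐ[A] B ⊗[A] A') := by
      have h1 : e' ∈ (J.map (Algebra.TensorProduct.includeLeft : B →ₐ[A] B ⊗[A] A')).radical := by
        rw [Ideal.radical_eq_sInf, Ideal.mem_sInf]
        intro q hq
        haveI := hq.2
        by_contra hne
        have h2 : (⟨q, hq.2⟩ : PrimeSpectrum (B ⊗[A] A')) ∈ Set.range (U'.ι ≫ m) := hre' ▸ hne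
        obtain ⟨z, hz⟩ := h2
        have h3 : (⟨q, hq.2⟩ : PrimeSpectrum (B ⊗[A] A')) ∈ Set.range m := ⟨U'.ι z, hz⟩
        rw [hmr, Set.mem_preimage, hrange] at h3
        exact h3 fun x hx => hq.1 (Ideal.mem_map_of_mem _ hx)
      obtain ⟨k, hk⟩ := h1
      rcases k with _ | k
      · rw [pow_zero] at hk
        exact (Ideal.eq_top_iff_one _).mpr hk ▸ Submodule.mem_top
      · rwa [he'.pow_succ_eq k] at hk
    obtain ⟨φ, hφ⟩ := huniv A' e' he' he'J
    let c : Y' ⟶ Spec (CommRingCat.of P) := Y'.isoSpec.hom ≫ Spec.map (CommRingCat.ofHom φ.toRingHom)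
    have hc : c ≫ a = b := by
      rw [Category.assoc, ← Spec.map_comp_assoc, ← CommRingCat.ofHom_comp,
        show φ.toRingHom.comp (algebraMap A P) = algebraMap A A' from φ.comp_algebraMap, hb]
    refine ⟨c, hc, ?_⟩
    let M := pullback.map f b f a (𝟙 X) c (𝟙 Y) ((Category.comp_id f).trans (Category.id_comp f).symm) ((Category.comp_id b).trans hc.symm)
    let T := Spec.map (CommRingCat.ofHom (Algebra.TensorProduct.map (AlgHom.id A B) φ).toRingHom)
    have hnat : M ≫ mu = m ≫ T := by
      refine (isPullback_SpecMap_of_isPushout _ _ _ _ (CommRingCat.isPushout_tensorProduct A B P)).hom_ext ?_ ?_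
      · rw [Category.assoc, hmu1, ← Category.assoc, pullback.lift_fst, Category.comp_id, ← hm1, Category.assoc]
        congr 1
        rw [← Spec.map_comp, ← CommRingCat.ofHom_comp]
        congr 2
        exact RingHom.ext fun x => by simp
      · rw [Category.assoc, hmu2, pullback.lift_snd, Category.assoc, ← Spec.map_comp, ← CommRingCat.ofHom_comp]
        simp only [c, ← hm2, Category.assoc, ← Category.assoc (pullback.snd f b)]
        rw [← Spec.map_comp, ← CommRingCat.ofHom_comp]
        congr 3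
    have h1 : M ⁻¹ᵁ Uu = (M ≫ mu) ⁻¹ᵁ PrimeSpectrum.basicOpen e := rfl
    rw [h1, hnat]
    refine TopologicalSpace.Opens.ext ?_
    show m ⁻¹' (PrimeSpectrum.comap (Algebra.TensorProduct.map (AlgHom.id A B) φ).toRingHom ⁻¹' (PrimeSpectrum.basicOpen e).carrier) = _
    rw [show PrimeSpectrum.comap (Algebra.TensorProduct.map (AlgHom.id A B) φ).toRingHom ⁻¹' (PrimeSpectrum.basicOpen e).carrier =
        (PrimeSpectrum.basicOpen e').carrier from by rw [← hφ]; rfl]
    rw [show (PrimeSpectrum.basicOpen e').carrier = Set.range (U'.ι ≫ m) from hre'.symm, Scheme.Hom.comp_base,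
      TopCat.coe_comp, Set.range_comp, Scheme.Opens.range_ι]
    exact Set.preimage_image_eq _ m.isOpenEmbedding.injective

end Geom

end Groth.Agent.UnivFinOpen
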