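import Mathlib

/-!
# A finitely presented finite factorization of an open immersion
-/

set_option autoImplicit false
set_option linter.style.haveILetI false
set_option maxHeartbeats 1000000
set_option backward.isDefEq.respectTransparency false

universe u

open CategoryTheory AlgebraicGeometry

noncomputable section

namespace Groth.Agent.UnivFinOpen

variable (A B : Type u) [CommRing A] [CommRing B] [Algebra A B]

/-- A finite algebra is the quotient of a finite algebra of finite presentation. -/
theorem exists_finite_fp [Module.Finite A B] :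
    ∃ (F : Type u) (_ : CommRing F) (_ : Algebra A F) (π : F →ₐ[A] B), Module.Finite A F ∧
      Algebra.FinitePresentation A F ∧ Function.Surjective π := by
  classical
  obtain ⟨n, t, ht⟩ := Module.Finite.exists_fin (R := A) (M := B)
  choose p hp hpt using fun i => IsIntegral.of_finite A (t i)
  let eq : Fin n → MvPolynomial (Fin n) A := fun i => Polynomial.aeval (MvPolynomial.X i) (p i)
  let J : Ideal (MvPolynomial (Fin n) A) := Ideal.span (Set.range eq)
  let π₀ : MvPolynomial (Fin n) A →ₐ[A] B := MvPolynomial.aeval t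
  have hJ : ∀ x ∈ J, π₀ x = 0 := by
    intro x hx
    refine (show J ≤ RingHom.ker π₀ from ?_) hx
    rw [Ideal.span_le]
    rintro _ ⟨i, rfl⟩
    show π₀ (Polynomial.aeval (MvPolynomial.X i) (p i)) = 0
    rw [← Polynomial.aeval_algHom_apply, MvPolynomial.aeval_X]
    exact hpt i
  haveI hfp : Algebra.FinitePresentation A (MvPolynomial (Fin n) A ⧸ J) :=
    Algebra.FinitePresentation.quotient ⟨Finset.univ.image eq, by simp [J]⟩
  haveI : Algebra.IsIntegral A (MvPolynomial (Fin n) A ⧸ J) := by
    constructor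
    intro x
    obtain ⟨x, rfl⟩ := Ideal.Quotient.mk_surjective x
    induction x using MvPolynomial.induction_on with
    | C a => exact isIntegral_algebraMap (R := A) (x := a)
    | add a b ha hb => rw [map_add]; exact ha.add hb
    | mul_X a i ha =>
      rw [map_mul]
      refine ha.mul ⟨p i, hp i, ?_⟩
      rw [← Polynomial.aeval_def, ← Ideal.Quotient.mkₐ_eq_mk A, Polynomial.aeval_algHom_apply, Ideal.Quotient.mkₐ_eq_mk]
      exact Ideal.Quotient.eq_zero_iff_mem.mpr (Ideal.subset_span ⟨i, rfl⟩)
  refine ⟨_, inferInstance, inferInstance, Ideal.Quotient.liftₐ J π₀ hJ, Algebra.IsIntegral.finite, hfp, fun b => ?_⟩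
  have hb : b ∈ Submodule.span A (Set.range t) := ht ▸ trivial
  induction hb using Submodule.span_induction with
  | mem x hx => obtain ⟨i, rfl⟩ := hx; exact ⟨Ideal.Quotient.mk J (MvPolynomial.X i), by simp [π₀]⟩
  | zero => exact ⟨0, map_zero _⟩
  | add x y _ _ hx hy => obtain ⟨u, rfl⟩ := hx; obtain ⟨v, rfl⟩ := hy; exact ⟨u + v, map_add _ _ _⟩
  | smul a x _ hx => obtain ⟨u, rfl⟩ := hx; exact ⟨a • u, map_smul _ _ _⟩

/-- Finite presentation on basic opens descends to a finite algebra of finite presentation. -/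
theorem exists_fp_approx [Module.Finite A B] (s : Finset B)
    (hs : ∀ b ∈ s, Algebra.FinitePresentation A (Localization.Away b)) :
    ∃ (B₀ : Type u) (_ : CommRing B₀) (_ : Algebra A B₀) (π : B₀ →ₐ[A] B), Module.Finite A B₀ ∧
      Algebra.FinitePresentation A B₀ ∧ Function.Surjective π ∧
      ∀ b ∈ s, ∃ c : B₀, π c = b ∧ Function.Bijective (Localization.awayMap π.toRingHom c) := by
  classical
  obtain ⟨F, _, _, π, hF, hFp, hπ⟩ := exists_finite_fp A B
  choose c hc using hπ
  let S : B → Submonoid F := fun b => Submonoid.powers (c b)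
  have key : ∀ b ∈ s, ∃ T : Finset F, (↑T : Set F) ⊆ RingHom.ker π ∧
      ∀ x : F, π x = 0 → ∃ m : ℕ, c b ^ m * x ∈ Ideal.span (↑T : Set F) := by
    intro b hb
    haveI := hs b hb
    haveI : Algebra.FinitePresentation A (Localization.Away (c b)) :=
      Algebra.FinitePresentation.trans A F _
    have hu : IsUnit (algebraMap B (Localization.Away b) (π (c b))) := by
      rw [hc]; exact IsLocalization.Away.algebraMap_isUnit b
    let φ : Localization.Away (c b) →ₐ[A] Localization.Away b :=
      IsLocalization.liftAlgHom (M := Submonoid.powers (c b)) (f := (IsScalarTower.toAlgHom A B _).comp π) (fun y => by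
        obtain ⟨_, m, rfl⟩ := y
        simp only [map_pow]
        exact hu.pow m)
    have hφ : ∀ x : F, φ (algebraMap F _ x) = algebraMap B _ (π x) := fun x => by simp [φ]
    have hsurj : Function.Surjective φ := fun z => by
      obtain ⟨y, ⟨_, m, rfl⟩, rfl⟩ := IsLocalization.exists_mk'_eq (Submonoid.powers b) z
      refine ⟨IsLocalization.mk' _ (c y) (⟨c b ^ m, m, rfl⟩ : Submonoid.powers (c b)), ?_⟩
      rw [IsLocalization.eq_mk'_iff_mul_eq]
      have h1 := congrArg φ (IsLocalization.mk'_spec (Localization.Away (c b)) (c y) (⟨c b ^ m, m, rfl⟩ : Submonoid.powers (c b)))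
      rw [map_mul, hφ, hφ, map_pow, hc, hc, map_pow] at h1
      simpa only [map_pow] using h1
    obtain ⟨G, hG⟩ := Algebra.FinitePresentation.ker_fG_of_surjective φ hsurj
    have hgen : ∀ g ∈ G, ∃ x : F, π x = 0 ∧ g ∈ Ideal.span {algebraMap F (Localization.Away (c b)) x} := by
      intro g hg
      have hg0 : φ g = 0 := (hG ▸ Ideal.subset_span hg : g ∈ RingHom.ker φ)
      obtain ⟨x, ⟨_, m, rfl⟩, rfl⟩ := IsLocalization.exists_mk'_eq (Submonoid.powers (c b)) g
      have h1 : φ (algebraMap F _ x) = 0 := by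
        rw [← IsLocalization.mk'_spec (Localization.Away (c b)) x (⟨c b ^ m, m, rfl⟩ : Submonoid.powers (c b)),
          map_mul, hg0, zero_mul]
      rw [hφ, IsLocalization.map_eq_zero_iff (Submonoid.powers b)] at h1
      obtain ⟨⟨_, k, rfl⟩, hk⟩ := h1
      refine ⟨c b ^ k * x, by rw [map_mul, map_pow, hc]; exact hk, ?_⟩
      rw [Ideal.mem_span_singleton, map_mul, map_pow]
      refine (((IsLocalization.Away.algebraMap_isUnit (c b)).pow k).mul_left_dvd).mpr ?_
      exact ⟨IsLocalization.mk' _ 1 (⟨c b ^ m, m, rfl⟩ : Submonoid.powers (c b)), by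
        rw [← IsLocalization.mk'_eq_mul_mk'_one]⟩
    choose X hX hXg using hgen
    refine ⟨G.attach.image fun g => X g.1 g.2, ?_, fun x hx => ?_⟩
    · intro z hz
      simp only [Finset.coe_image, Set.mem_image] at hz
      obtain ⟨g, -, rfl⟩ := hz
      exact hX g.1 g.2
    · let I := Ideal.span (↑(G.attach.image fun g => X g.1 g.2) : Set F)
      have h1 : algebraMap F (Localization.Away (c b)) x ∈ I.map (algebraMap F (Localization.Away (c b))) := by
        have h2 : algebraMap F (Localization.Away (c b)) x ∈ RingHom.ker φ := by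
          rw [RingHom.mem_ker, hφ, hx, map_zero]
        refine Ideal.span_le.mpr (fun g hg => ?_) (hG.ge h2)
        refine Ideal.span_le.mpr ?_ (hXg g hg)
        rw [Set.singleton_subset_iff]
        exact Ideal.mem_map_of_mem _ (Ideal.subset_span (Finset.mem_image.mpr ⟨⟨g, hg⟩, Finset.mem_attach _ _, rfl⟩))
      rw [IsLocalization.algebraMap_mem_map_algebraMap_iff (Submonoid.powers (c b))] at h1
      obtain ⟨_, ⟨m, rfl⟩, hm⟩ := h1
      exact ⟨m, hm⟩
  choose! T hT hTk using key
  let K : Ideal F := Ideal.span (↑(s.biUnion T) : Set F)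
  have hK : ∀ x ∈ K, π x = 0 := fun x hx => by
    refine (show K ≤ RingHom.ker π from ?_) hx
    rw [Ideal.span_le, Finset.coe_biUnion]
    exact Set.iUnion₂_subset hT
  haveI : Algebra.FinitePresentation A (F ⧸ K) := Algebra.FinitePresentation.quotient ⟨s.biUnion T, rfl⟩
  let π' : F ⧸ K →ₐ[A] B := Ideal.Quotient.liftₐ K π hK
  have hπ' : ∀ x, π' (Ideal.Quotient.mk K x) = π x := fun _ => rfl
  refine ⟨F ⧸ K, inferInstance, inferInstance, π', inferInstance, inferInstance,
    fun y => ⟨Ideal.Quotient.mk K (c y), hc y⟩, fun b hb => ⟨Ideal.Quotient.mk K (c b), hc b, ?_, ?_⟩⟩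
  · rw [injective_iff_map_eq_zero]
    intro z hz
    obtain ⟨x, ⟨_, m, rfl⟩, rfl⟩ := IsLocalization.exists_mk'_eq (Submonoid.powers (Ideal.Quotient.mk K (c b))) z
    obtain ⟨x, rfl⟩ := Ideal.Quotient.mk_surjective x
    unfold Localization.awayMap IsLocalization.Away.map at hz
    rw [IsLocalization.map_mk', IsLocalization.mk'_eq_zero_iff] at hz
    obtain ⟨⟨_, k, rfl⟩, hk⟩ := hz
    have h1 : π (c b ^ k * x) = 0 := by rw [map_mul, map_pow]; exact hk
    obtain ⟨l, hl⟩ := hTk b hb _ h1
    rw [IsLocalization.mk'_eq_zero_iff]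
    refine ⟨⟨Ideal.Quotient.mk K (c b) ^ (l + k), l + k, rfl⟩, ?_⟩
    show Ideal.Quotient.mk K (c b) ^ (l + k) * Ideal.Quotient.mk K x = 0
    rw [← map_pow, ← map_mul, Ideal.Quotient.eq_zero_iff_mem, pow_add, mul_assoc]
    exact Ideal.span_mono (Finset.coe_subset.mpr (Finset.subset_biUnion_of_mem T hb)) hl
  · intro z
    obtain ⟨y, ⟨_, m, rfl⟩, rfl⟩ := IsLocalization.exists_mk'_eq (Submonoid.powers (π'.toRingHom (Ideal.Quotient.mk K (c b)))) z
    refine ⟨IsLocalization.mk' _ (Ideal.Quotient.mk K (c y))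
      (⟨Ideal.Quotient.mk K (c b) ^ m, m, rfl⟩ : Submonoid.powers (Ideal.Quotient.mk K (c b))), ?_⟩
    unfold Localization.awayMap IsLocalization.Away.map
    rw [IsLocalization.map_mk']
    refine IsLocalization.mk'_eq_of_eq ?_
    simp [hπ', hc]

end Groth.Agent.UnivFinOpen
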