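import Groth.Agent.UnivFinOpen.Approx
import Groth.Agent.S0385

/-!
# A finitely presented Zariski main theorem factorization over an affine base
-/

set_option autoImplicit false
set_option linter.style.haveILetI false
set_option maxHeartbeats 1000000
set_option backward.isDefEq.respectTransparency false

universe u

open CategoryTheory AlgebraicGeometry Topology

noncomputable section

namespace Groth.Agent.UnivFinOpen

/-- An injective local isomorphism is an open immersion. -/
theorem isOpenImmersion_of_injective {X Y : Scheme.{u}} (f : X ⟶ Y) (hinj : Function.Injective f)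
    (h : ∀ x : X, ∃ (W : Scheme.{u}) (l : W ⟶ X), IsOpenImmersion l ∧ IsOpenImmersion (l ≫ f) ∧ x ∈ Set.range l) :
    IsOpenImmersion f := by
  rw [IsOpenImmersion.iff_isIso_stalkMap]
  refine ⟨IsOpenEmbedding.of_continuous_injective_isOpenMap f.continuous hinj
    (isOpenMap_iff_nhds_le.mpr fun x => ?_), fun x => ?_⟩
  · obtain ⟨W, l, hl, hlf, w, rfl⟩ := h x
    rw [← l.isOpenEmbedding.map_nhds_eq, Filter.map_map]
    exact ((l ≫ f).isOpenEmbedding.map_nhds_eq w).ge
  · obtain ⟨W, l, hl, hlf, w, rfl⟩ := h x
    have := Scheme.Hom.stalkMap_comp l f w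
    haveI : IsIso (f.stalkMap (l w) ≫ l.stalkMap w) := this ▸ inferInstance
    exact IsIso.of_isIso_comp_right _ (l.stalkMap w)

variable {A : Type u} [CommRing A]

theorem exists_finite_fp_factor {X : Scheme.{u}} (f : X ⟶ Spec (CommRingCat.of A)) [IsSeparated f]
    [LocallyQuasiFinite f] [LocallyOfFinitePresentation f] [QuasiCompact f] :
    ∃ (B : Type u) (_ : CommRing B) (_ : Algebra A B) (j : X ⟶ Spec (CommRingCat.of B)) (J : Ideal B),
      Module.Finite A B ∧ Algebra.FinitePresentation A B ∧ IsOpenImmersion j ∧ J.FG ∧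
      Set.range j = (PrimeSpectrum.zeroLocus (J : Set B))ᶜ ∧
      j ≫ Spec.map (CommRingCat.ofHom (algebraMap A B)) = f := by
  classical
  obtain ⟨T, j₁, π₁, hj, hjqc, hπ, hfac⟩ := Groth.Agent.S0385.result f
  haveI : IsAffine T := isAffine_of_isAffineHom π₁
  let ψ := Spec.preimage (T.isoSpec.inv ≫ π₁)
  have hψfin : ψ.hom.Finite := by
    rw [← IsFinite.SpecMap_iff, Spec.map_preimage]
    infer_instance
  let B := Γ(T, ⊤)
  letI : Algebra A B := ψ.hom.toAlgebra
  haveI : Module.Finite A B := hψfin
  let j : X ⟶ Spec (CommRingCat.of B) := j₁ ≫ T.isoSpec.hom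
  have hjf : j ≫ Spec.map (CommRingCat.ofHom (algebraMap A B)) = f := by
    rw [show CommRingCat.ofHom (algebraMap A B) = ψ from rfl, Spec.map_preimage]
    simp [j, hfac]
  haveI : IsOpenImmersion j := inferInstance
  haveI : QuasiCompact j := inferInstance
  haveI : CompactSpace X := QuasiCompact.compactSpace_of_compactSpace f
  obtain ⟨s, hrange⟩ := PrimeSpectrum.isCompact_isOpen_iff.mp
    (⟨isCompact_range j.continuous, j.isOpenEmbedding.isOpen_range⟩ : IsCompact (Set.range j) ∧ IsOpen (Set.range j))
  have hfp : ∀ b ∈ s, Algebra.FinitePresentation A (Localization.Away b) := by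
    intro b hb
    let jb := Spec.map (CommRingCat.ofHom (algebraMap B (Localization.Away b)))
    have hsub : Set.range jb ⊆ Set.range j := by
      intro q hq
      obtain ⟨z, rfl⟩ := hq
      rw [← hrange, Set.mem_compl_iff, PrimeSpectrum.mem_zeroLocus]
      intro hle
      exact z.isPrime.ne_top (Ideal.eq_top_of_isUnit_mem _ (hle (Finset.mem_coe.mpr hb))
        (IsLocalization.Away.algebraMap_isUnit b))
    have hcomp : Spec.map (CommRingCat.ofHom (algebraMap A (Localization.Away b))) = IsOpenImmersion.lift j jb hsub ≫ f := by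
      rw [← hjf, IsOpenImmersion.lift_fac_assoc, ← Spec.map_comp, ← CommRingCat.ofHom_comp,
        ← IsScalarTower.algebraMap_eq]
    haveI : IsOpenImmersion (IsOpenImmersion.lift j jb hsub) := by
      haveI : IsOpenImmersion jb := IsOpenImmersion.of_isLocalization b
      haveI : IsOpenImmersion (IsOpenImmersion.lift j jb hsub ≫ j) := by rw [IsOpenImmersion.lift_fac]; infer_instance
      exact IsOpenImmersion.of_comp _ j
    have h1 : LocallyOfFinitePresentation (Spec.map (CommRingCat.ofHom (algebraMap A (Localization.Away b)))) := by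
      rw [hcomp]; infer_instance
    exact RingHom.finitePresentation_algebraMap.mp ((HasRingHomProperty.Spec_iff (P := @LocallyOfFinitePresentation)).1 h1)
  obtain ⟨B₀, _, _, π, hB, hBfp, hπs, hbij⟩ := exists_fp_approx A B s hfp
  choose c hc hcbij using hbij
  let i := Spec.map (CommRingCat.ofHom π.toRingHom)
  haveI : IsClosedImmersion i := IsClosedImmersion.spec_of_surjective _ hπs
  let J : Ideal B₀ := Ideal.span (Set.range fun b : {b // b ∈ s} => c b.1 b.2)
  have hD : ∀ (b : B) (hb : b ∈ s), ∃ l : Spec (CommRingCat.of (Localization.Away b)) ⟶ Spec (CommRingCat.of B),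
      IsOpenImmersion l ∧ IsOpenImmersion (l ≫ i) ∧ Set.range l = (PrimeSpectrum.basicOpen b).carrier ∧
      Set.range (l ≫ i) = (PrimeSpectrum.basicOpen (c b hb)).carrier := by
    intro b hb
    have hu : IsUnit (algebraMap B (Localization.Away b) (π (c b hb))) := by
      rw [hc]; exact IsLocalization.Away.algebraMap_isUnit b
    haveI : IsLocalization.Away (π.toRingHom (c b hb)) (Localization.Away b) :=
      (hc b hb).symm ▸ (inferInstance : IsLocalization.Away b (Localization.Away b))
    let e : Localization.Away (c b hb) ≃+* Localization.Away b :=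
      (RingEquiv.ofBijective _ (hcbij b hb)).trans
        (IsLocalization.algEquiv (Submonoid.powers (π.toRingHom (c b hb))) _ _).toRingEquiv
    have he : (algebraMap B (Localization.Away b)).comp π.toRingHom =
        e.toRingHom.comp (algebraMap B₀ (Localization.Away (c b hb))) := by
      refine RingHom.ext fun x => ?_
      simp [e, Localization.awayMap, IsLocalization.Away.map]
    haveI : IsIso (CommRingCat.ofHom e.toRingHom) := e.toCommRingCatIso.isIso_hom
    refine ⟨Spec.map (CommRingCat.ofHom (algebraMap B (Localization.Away b))), IsOpenImmersion.of_isLocalization b, ?_,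
      PrimeSpectrum.localization_away_comap_range _ b, ?_⟩
    · rw [← Spec.map_comp, ← CommRingCat.ofHom_comp, he, CommRingCat.ofHom_comp, Spec.map_comp]
      haveI := IsOpenImmersion.of_isLocalization (c b hb) (S := Localization.Away (c b hb))
      infer_instance
    · rw [← Spec.map_comp, ← CommRingCat.ofHom_comp, he, CommRingCat.ofHom_comp, Spec.map_comp, Scheme.Hom.comp_base]
      rw [TopCat.coe_comp, Set.range_comp, Set.range_eq_univ.mpr (Spec.map (CommRingCat.ofHom e.toRingHom)).surjective,
        Set.image_univ]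
      exact PrimeSpectrum.localization_away_comap_range _ (c b hb)
  choose l hlo hlio hlr hlir using hD
  have hcov : ∀ x : X, ∃ b, ∃ hb : b ∈ s, j x ∈ Set.range (l b hb) := by
    intro x
    have : j x ∈ (PrimeSpectrum.zeroLocus s)ᶜ := hrange ▸ Set.mem_range_self x
    obtain ⟨b, hb, hb'⟩ := Set.not_subset.mp this
    exact ⟨b, Finset.mem_coe.mp hb, hlr b _ ▸ hb'⟩
  refine ⟨B₀, inferInstance, inferInstance, j ≫ i, J, hB, hBfp, ?_, ⟨Finset.univ.image fun b : {b // b ∈ s} => c b.1 b.2, by simp [J]⟩, ?_, ?_⟩
  · refine isOpenImmersion_of_injective _ (by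
      rw [Scheme.Hom.comp_base, TopCat.coe_comp]
      exact i.isEmbedding.injective.comp j.isOpenEmbedding.injective) fun x => ?_
    obtain ⟨b, hb, z, hz⟩ := hcov x
    have hsub : Set.range (l b hb) ⊆ Set.range j := by
      rw [hlr b hb, ← hrange]
      intro q hq hq'
      exact hq (hq' (Finset.mem_coe.mpr hb))
    haveI := hlo b hb
    refine ⟨_, IsOpenImmersion.lift j (l b hb) hsub, ?_, ?_, z, ?_⟩
    · haveI : IsOpenImmersion (IsOpenImmersion.lift j (l b hb) hsub ≫ j) := by rw [IsOpenImmersion.lift_fac]; infer_instance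
      exact IsOpenImmersion.of_comp _ j
    · rw [IsOpenImmersion.lift_fac_assoc]; exact hlio b hb
    · refine j.isOpenEmbedding.injective ?_
      rw [← Scheme.Hom.comp_apply, IsOpenImmersion.lift_fac]; exact hz
  · ext q
    constructor
    · rintro ⟨x, rfl⟩ hq
      obtain ⟨b, hb, z, hz⟩ := hcov x
      have h1 : i (l b hb z) ∈ Set.range (l b hb ≫ i) := ⟨z, rfl⟩
      rw [hlir b hb] at h1
      refine h1 ?_
      rw [hz]
      exact hq (Ideal.subset_span ⟨⟨b, hb⟩, rfl⟩)
    · intro hq
      rw [Set.mem_compl_iff, PrimeSpectrum.mem_zeroLocus, SetLike.coe_subset_coe, Ideal.span_le, Set.range_subset_iff,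
        not_forall] at hq
      obtain ⟨⟨b, hb⟩, hbq⟩ := hq
      have h1 : q ∈ Set.range (l b hb ≫ i) := by rw [hlir b hb]; exact hbq
      obtain ⟨z, rfl⟩ := h1
      have h2 : l b hb z ∈ Set.range j := by
        rw [← hrange]
        have h3 : l b hb z ∈ Set.range (l b hb) := ⟨z, rfl⟩
        rw [hlr b hb] at h3
        exact fun h => h3 (h (Finset.mem_coe.mpr hb))
      obtain ⟨x, hx⟩ := h2
      exact ⟨x, (Scheme.Hom.comp_apply j i x).trans ((congrArg i hx).trans (Scheme.Hom.comp_apply (l b hb) i z).symm)⟩
  · rw [Category.assoc, ← Spec.map_comp, ← CommRingCat.ofHom_comp, show π.toRingHom.comp (algebraMap A B₀) = algebraMap A B from π.comp_algebraMap, hjf]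

end Groth.Agent.UnivFinOpen
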